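import Mathlib.CategoryTheory.Abelian.SerreClass.Localization
import Mathlib.CategoryTheory.Localization.CalculusOfFractions
import Mathlib.Algebra.Homology.DerivedCategory.ExactFunctor
import Mathlib.CategoryTheory.Abelian.Exact

/-! Lifting complexes along a Serre quotient. -/

set_option autoImplicit false
universe w w' v v' u u'

open CategoryTheory CategoryTheory.Limits

namespace GrothLib.SerreLift19

theorem isIso_kernel_ι_of_eq_zero {C : Type u} [Category.{v} C] [Abelian C] {X Y : C} {f : X ⟶ Y}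
    (h : f = 0) : IsIso (kernel.ι f) := by
  subst h; infer_instance

theorem isIso_cokernel_π_of_eq_zero {C : Type u} [Category.{v} C] [Abelian C] {X Y : C} {f : X ⟶ Y}
    (h : f = 0) : IsIso (cokernel.π f) := by
  subst h; infer_instance

variable {A : Type u} [Category.{v} A] [Abelian A] (P : ObjectProperty A) [P.IsSerreClass]
  {Q : Type u'} [Category.{v'} Q] [Abelian Q] (L : A ⥤ Q) [L.IsLocalization P.isoModSerre] [L.Additive]
  [PreservesFiniteLimits L] [PreservesFiniteColimits L]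

include P in
theorem exists_right {X : A} {M : Q} (φ : L.obj X ⟶ M) :
    ∃ (Y : A) (f : X ⟶ Y) (e : L.obj Y ≅ M), L.map f ≫ e.hom = φ := by
  have := Localization.essSurj L P.isoModSerre
  obtain ⟨ψ, hψ⟩ := Localization.exists_leftFraction L P.isoModSerre (φ ≫ (L.objObjPreimageIso M).inv)
  have : IsIso (L.map ψ.s) := Localization.inverts L P.isoModSerre _ ψ.hs
  refine ⟨ψ.Y', ψ.f, (asIso (L.map ψ.s)).symm ≪≫ L.objObjPreimageIso M, ?_⟩
  have h := congrArg (· ≫ (L.objObjPreimageIso M).hom) hψ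
  simp only [Category.assoc, Iso.inv_hom_id, Category.comp_id] at h
  rw [h, MorphismProperty.LeftFraction.map]
  simp

include P in
theorem exists_left {X : A} {M : Q} (φ : M ⟶ L.obj X) :
    ∃ (Y : A) (f : Y ⟶ X) (e : L.obj Y ≅ M), e.inv ≫ L.map f = φ := by
  have := Localization.essSurj L P.isoModSerre
  obtain ⟨ψ, hψ⟩ := Localization.exists_rightFraction L P.isoModSerre ((L.objObjPreimageIso M).hom ≫ φ)
  have : IsIso (L.map ψ.s) := Localization.inverts L P.isoModSerre _ ψ.hs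
  refine ⟨ψ.X', ψ.f, asIso (L.map ψ.s) ≪≫ L.objObjPreimageIso M, ?_⟩
  have h := congrArg ((L.objObjPreimageIso M).inv ≫ ·) hψ
  simp only [Iso.inv_hom_id_assoc] at h
  rw [h, MorphismProperty.RightFraction.map]
  simp

variable (M : CochainComplex Q ℤ)

/-- A lifted arrow. -/
structure St (i j : ℤ) where
  /-- Source. -/
  X : A
  /-- Target. -/
  Y : A
  /-- Arrow. -/
  f : X ⟶ Y
  /-- Identification of the source. -/
  e : L.obj X ≅ M.X i
  /-- Identification of the target. -/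
  e' : L.obj Y ≅ M.X j
  comm : L.map f ≫ e'.hom = e.hom ≫ M.d i j

include P in
theorem exists_start (i : ℤ) : Nonempty (St L M i (i + 1)) := by
  have := Localization.essSurj L P.isoModSerre
  obtain ⟨Y, f, e, he⟩ := exists_right P L ((L.objObjPreimageIso (M.X i)).hom ≫ M.d i (i + 1))
  exact ⟨⟨_, Y, f, _, e, he⟩⟩

include P in
theorem exists_succ {i j k : ℤ} (S : St L M i j) :
    ∃ (Z : A) (g : S.Y ⟶ Z) (e : L.obj Z ≅ M.X k), L.map g ≫ e.hom = S.e'.hom ≫ M.d j k ∧ S.f ≫ g = 0 := by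
  obtain ⟨Z, g, e, he⟩ := exists_right P L (S.e'.hom ≫ M.d j k)
  have h0 : L.map (S.f ≫ g) = 0 := by
    rw [← cancel_mono e.hom, zero_comp, L.map_comp, Category.assoc, he, reassoc_of% S.comm, M.d_comp_d,
      comp_zero]
  let i' := PreservesCokernel.iso L (S.f ≫ g)
  have hepi : Epi (L.map (cokernel.π (S.f ≫ g))) := inferInstance
  have hiso : IsIso (L.map (cokernel.π (S.f ≫ g))) := by
    have : IsIso (cokernel.π (L.map (S.f ≫ g))) := isIso_cokernel_π_of_eq_zero h0
    have e1 : L.map (cokernel.π (S.f ≫ g)) = cokernel.π (L.map (S.f ≫ g)) ≫ i'.inv := by simp [i']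
    rw [e1]; infer_instance
  refine ⟨cokernel (S.f ≫ g), g ≫ cokernel.π _, (asIso (L.map (cokernel.π (S.f ≫ g)))).symm ≪≫ e, ?_, ?_⟩
  · simp [L.map_comp, he]
  · rw [← Category.assoc, cokernel.condition]

include P in
theorem exists_pred {i j k : ℤ} (S : St L M j k) :
    ∃ (Z : A) (g : Z ⟶ S.X) (e : L.obj Z ≅ M.X i), L.map g ≫ S.e.hom = e.hom ≫ M.d i j ∧ g ≫ S.f = 0 := by
  obtain ⟨Z, g, e, he⟩ := exists_left P L (M.d i j ≫ S.e.inv)
  have he' : L.map g ≫ S.e.hom = e.hom ≫ M.d i j := by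
    rw [← cancel_epi e.inv, ← Category.assoc, he, Category.assoc, Iso.inv_hom_id, Category.comp_id,
      Iso.inv_hom_id_assoc]
  have h0 : L.map (g ≫ S.f) = 0 := by
    rw [← cancel_mono S.e'.hom, zero_comp, L.map_comp, Category.assoc, S.comm, reassoc_of% he', M.d_comp_d,
      comp_zero]
  let i' := PreservesKernel.iso L (g ≫ S.f)
  have hiso : IsIso (L.map (kernel.ι (g ≫ S.f))) := by
    have : IsIso (kernel.ι (L.map (g ≫ S.f))) := isIso_kernel_ι_of_eq_zero h0
    have e1 : L.map (kernel.ι (g ≫ S.f)) = i'.hom ≫ kernel.ι (L.map (g ≫ S.f)) := by simp [i']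
    rw [e1]; infer_instance
  refine ⟨kernel (g ≫ S.f), kernel.ι _ ≫ g, asIso (L.map (kernel.ι (g ≫ S.f))) ≪≫ e, ?_, ?_⟩
  · simp [L.map_comp, he']
  · rw [Category.assoc, kernel.condition]

include P in
theorem exists_complex : ∃ K : CochainComplex A ℤ, Nonempty ((L.mapHomologicalComplex _).obj K ≅ M) := by
  let S₀ : St L M ((0 : ℕ) : ℤ) (((0 : ℕ) : ℤ) + 1) := (exists_start P L M ((0 : ℕ) : ℤ)).some
  choose Zr gr er hr hr0 using fun (n : ℕ) (S : St L M (n : ℤ) ((n : ℤ) + 1)) =>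
    exists_succ P L M (k := (n : ℤ) + 1 + 1) S
  let R : ∀ n : ℕ, St L M (n : ℤ) ((n : ℤ) + 1) := fun n =>
    Nat.rec (motive := fun n : ℕ => St L M (n : ℤ) ((n : ℤ) + 1)) S₀
      (fun m S => ⟨S.Y, Zr m S, gr m S, S.e', er m S, hr m S⟩) n
  choose Zl gl el hl hl0 using fun (n : ℕ) (S : St L M (Int.negSucc n) (Int.negSucc n + 1)) =>
    exists_pred P L M (i := Int.negSucc (n + 1)) S
  obtain ⟨Z₁, g₁, e₁, h₁, h₁'⟩ := exists_pred P L M (i := Int.negSucc 0) S₀
  let Lf : ∀ n : ℕ, St L M (Int.negSucc n) (Int.negSucc n + 1) := fun n =>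
    Nat.rec (motive := fun n : ℕ => St L M (Int.negSucc n) (Int.negSucc n + 1))
      (St.mk (i := Int.negSucc 0) (j := Int.negSucc 0 + 1) Z₁ S₀.X g₁ e₁ S₀.e h₁)
      (fun m S => ⟨Zl m S, S.X, gl m S, el m S, S.e, hl m S⟩) n
  let X : ℤ → A := fun
    | Int.ofNat n => (R n).X
    | Int.negSucc n => (Lf n).X
  let e : ∀ i : ℤ, L.obj (X i) ≅ M.X i := fun
    | Int.ofNat n => (R n).e
    | Int.negSucc n => (Lf n).e
  let d : ∀ i : ℤ, X i ⟶ X (i + 1) := fun
    | Int.ofNat n => (R n).f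
    | Int.negSucc 0 => g₁
    | Int.negSucc (n + 1) => gl n (Lf n)
  have hdd : ∀ i : ℤ, d i ≫ d (i + 1) = 0 := fun
    | Int.ofNat n => hr0 n (R n)
    | Int.negSucc 0 => h₁'
    | Int.negSucc 1 => hl0 0 (Lf 0)
    | Int.negSucc (n + 2) => hl0 (n + 1) (Lf (n + 1))
  have hcomm : ∀ i : ℤ, L.map (d i) ≫ (e (i + 1)).hom = (e i).hom ≫ M.d i (i + 1) := fun
    | Int.ofNat n => (R n).comm
    | Int.negSucc 0 => h₁
    | Int.negSucc (n + 1) => hl n (Lf n)
  refine ⟨CochainComplex.of X d hdd, ⟨HomologicalComplex.Hom.isoOfComponents e ?_⟩⟩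
  intro i j hij
  obtain rfl : i + 1 = j := hij
  exact (hcomm i).symm.trans
    (congrArg (fun z => L.map z ≫ (e (i + 1)).hom) (CochainComplex.of_d (X := X) (d := d) i).symm)

include P in
theorem essSurj_mapDerivedCategory [HasDerivedCategory.{w} A] [HasDerivedCategory.{w'} Q] :
    L.mapDerivedCategory.EssSurj where
  mem_essImage T := by
    obtain ⟨K, ⟨e⟩⟩ := exists_complex P L (DerivedCategory.Q.objPreimage T)
    exact ⟨DerivedCategory.Q.obj K, ⟨L.mapDerivedCategoryFactors.app K ≪≫ DerivedCategory.Q.mapIso e ≪≫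
      DerivedCategory.Q.objObjPreimageIso T⟩⟩

end GrothLib.SerreLift19
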